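import Groth.Agent.ExtReg38.Step

/-! The top extension group of the quotient by a regular sequence. -/

set_option autoImplicit false

noncomputable section

namespace Groth.Agent.ExtReg38

open CategoryTheory Abelian RingTheory.Sequence

universe u

variable {A : Type u} [CommRing A]

theorem ext_top (xs : List A) (hreg : IsWeaklyRegular A xs) (M : Type u) [AddCommGroup M] [Module A M] :
    (∀ i, xs.length < i → Subsingleton (Ext (ModuleCat.of A (A ⧸ Ideal.ofList xs)) (ModuleCat.of A M) i)) ∧
      Nonempty (Ext (ModuleCat.of A (A ⧸ Ideal.ofList xs)) (ModuleCat.of A M) xs.length ≃ₗ[A]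
        (M ⧸ (Ideal.ofList xs • (⊤ : Submodule A M)))) := by
  induction xs using List.reverseRecOn with
  | nil =>
    have hP : Module.Projective A (A ⧸ Ideal.ofList ([] : List A)) :=
      Module.Projective.of_equiv ((Submodule.quotEquivOfEqBot _ Ideal.ofList_nil).symm : A ≃ₗ[A] _)
    have : Projective (ModuleCat.of A (A ⧸ Ideal.ofList ([] : List A))) := inferInstance
    refine ⟨fun i hi => ?_, ⟨?_⟩⟩
    · obtain ⟨j, rfl⟩ : ∃ j, i = j + 1 := ⟨i - 1, by simp at hi; omega⟩
      exact subsingleton_of_forall_eq 0 fun z => Ext.eq_zero_of_projective z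
    · exact Ext.linearEquiv₀.trans ((ModuleCat.homLinearEquiv (S := A)).trans
        (((LinearEquiv.congrLeft M A (Submodule.quotEquivOfEqBot _ Ideal.ofList_nil)).trans
          (LinearMap.ringLmapEquivSelf A A M)).trans
          (Submodule.quotEquivOfEqBot _ (by simp)).symm))
  | append_singleton l x ih =>
    obtain ⟨hl, hx⟩ := regular_concat hreg
    obtain ⟨hvan, ⟨e⟩⟩ := ih hl
    let Y := ModuleCat.of A M
    rw [ofList_concat, List.length_append, List.length_singleton]
    refine ⟨fun i hi => ?_, ⟨?_⟩⟩
    · obtain ⟨j, rfl⟩ : ∃ j, i = j + 1 := ⟨i - 1, by omega⟩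
      refine subsingleton_of_forall_eq 0 fun z => ?_
      obtain ⟨w, rfl⟩ := exists_delta_eq hx Y z ((hvan (j + 1) (by omega)).elim _ _)
      rw [(hvan j (by omega)).elim w 0, map_zero]
    · let δ := delta hx Y l.length
      have hsurj : Function.Surjective δ := fun z =>
        exists_delta_eq hx Y z ((hvan (l.length + 1) (by omega)).elim _ _)
      let p : (M ⧸ Ideal.ofList l • (⊤ : Submodule A M)) →ₗ[A]
          M ⧸ (Ideal.ofList l ⊔ Ideal.span {x}) • (⊤ : Submodule A M) :=
        Submodule.factor (Submodule.smul_mono_left le_sup_left)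
      have hker : LinearMap.ker δ = LinearMap.ker (p ∘ₗ e.toLinearMap) := by
        ext z
        rw [LinearMap.mem_ker, delta_eq_zero_iff, LinearMap.mem_ker]
        constructor
        · rintro ⟨y, rfl⟩
          obtain ⟨m, hm⟩ := Submodule.Quotient.mk_surjective _ (e y)
          show p (e (x • y)) = 0
          rw [map_smul, ← hm]
          exact (Submodule.Quotient.mk_eq_zero _).2
            (Submodule.smul_mem_smul (Ideal.mem_sup_right (Ideal.mem_span_singleton_self x)) Submodule.mem_top)
        · intro hz
          obtain ⟨m, hm⟩ := Submodule.Quotient.mk_surjective _ (e z)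
          replace hz : p (e z) = 0 := hz
          rw [← hm] at hz
          have hz' := (Submodule.Quotient.mk_eq_zero _).1 hz
          rw [Submodule.sup_smul, Submodule.ideal_span_singleton_smul] at hz'
          obtain ⟨a, ha, b, hb, rfl⟩ := Submodule.mem_sup.1 hz'
          obtain ⟨c, -, rfl⟩ := (Submodule.mem_smul_pointwise_iff_exists _ _ _).1 hb
          refine ⟨e.symm (Submodule.Quotient.mk c), e.injective ?_⟩
          rw [map_smul, e.apply_symm_apply, ← hm, Submodule.Quotient.mk_add, (Submodule.Quotient.mk_eq_zero _).2 ha,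
            zero_add, Submodule.Quotient.mk_smul]
      exact ((δ.quotKerEquivOfSurjective hsurj).symm.trans (Submodule.quotEquivOfEq _ _ hker)).trans
        ((p ∘ₗ e.toLinearMap).quotKerEquivOfSurjective
          ((Submodule.factor_surjective (Submodule.smul_mono_left le_sup_left)).comp e.surjective))

end Groth.Agent.ExtReg38
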