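import Groth.Agent.LC15.CMDepth
import Groth.Agent.CAlg1.Serre
import Groth.Agent.ExtReg38.TopExt
import Groth.Agent.TFCurv38.ExtIso
import Mathlib.RingTheory.FiniteLength
import Mathlib.RingTheory.SimpleModule.Basic

/-! Extensions into a regular local ring. -/

set_option autoImplicit false

noncomputable section

namespace Groth.Agent.ExtReg38

open CategoryTheory Abelian RingTheory.Sequence Module

universe u

variable {A : Type u} [CommRing A] [IsRegularLocalRing A]

theorem subsingleton_ext_of_subsingleton {M : Type u} [AddCommGroup M] [Module A M] [Subsingleton M]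
    (Y : ModuleCat.{u} A) (i : ℕ) : Subsingleton (Ext (ModuleCat.of A M) Y i) := by
  refine subsingleton_of_forall_eq 0 fun x => ?_
  rw [← Ext.mk₀_id_comp x, (ModuleCat.isZero_of_subsingleton (ModuleCat.of A M)).eq_zero_of_src (𝟙 _),
    Ext.mk₀_zero, Ext.zero_comp]

theorem exists_dim (A : Type u) [CommRing A] [IsRegularLocalRing A] : ∃ n : ℕ, ringKrullDim A = n :=
  ⟨_, (IsRegularLocalRing.spanFinrank_maximalIdeal (R := A)).symm⟩

theorem subsingleton_ext_of_dim (M : Type u) [AddCommGroup M] [Module A M] [Module.Finite A M] (p : ℕ)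
    (hdim : supportDim A M + p ≤ ringKrullDim A) (i : ℕ) (hi : i < p) :
    Subsingleton (Ext (ModuleCat.of A M) (ModuleCat.of A A) i) := by
  rcases subsingleton_or_nontrivial M with hM | hM
  · exact subsingleton_ext_of_subsingleton _ i
  obtain ⟨n, hn⟩ := exists_dim A
  let I := Module.annihilator A M
  have hI : I ≠ ⊤ := fun h => not_subsingleton M (Module.annihilator_eq_top_iff.1 h)
  have hCM : LocCoh.IsCohenMacaulayModule A A := by
    refine EGA4Alg4.isCohenMacaulayModule_iff.2 ⟨inferInstance, ?_⟩
    rw [supportDim_self_eq_ringKrullDim, hn, CAlg1.depth_regular A hn]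
    exact le_rfl
  have hIA : I • (⊤ : Submodule A A) ≠ ⊤ := by simpa [Ideal.smul_top_eq_map] using hI
  have h := LC15.supportDim_eq_add_idealDepth I hI hCM
  rw [supportDim_self_eq_ringKrullDim, show supportDim A (A ⧸ I • (⊤ : Submodule A A)) = supportDim A M by
    rw [supportDim_eq_ringKrullDim_quotient_annihilator A M, ← supportDim_quotient_eq_ringKrullDim]
    exact supportDim_eq_of_equiv (Submodule.quotEquivOfEq _ _ (by simp [Ideal.smul_top_eq_map]; rfl))] at h
  obtain ⟨xs, -, hreg, hmem, hmax⟩ := LC15.exists_maximal_extension I hIA (IsWeaklyRegular.nil A A)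
    (fun r hr => by simp at hr)
  have hlen := LC15.length_eq_idealDepth_of_maximal I hIA hreg hmem hmax
  have hp : p ≤ xs.length := by
    rw [h, ← hlen] at hdim
    rw [hn, ← hlen] at h
    rcases hs : supportDim A M with _ | a
    · exact absurd hs (supportDim_ne_bot_of_nontrivial A M)
    · rw [hs] at hdim h
      rcases a with _ | a
      · refine absurd (h : ((n : ℕ∞) : WithBot ℕ∞) = ((⊤ + (xs.length : ℕ∞) : ℕ∞) : WithBot ℕ∞)) fun e => ?_
        have e' := WithBot.coe_injective e
        change (n : ℕ∞) = (⊤ : ℕ∞) + (xs.length : ℕ∞) at e'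
        rw [top_add] at e'
        exact ENat.natCast_ne_top n e'
      · have h2 : ((a + p : ℕ) : WithBot ℕ∞) ≤ ((a + xs.length : ℕ) : WithBot ℕ∞) := by
          push_cast
          exact hdim
        have h3 : a + p ≤ a + xs.length := by exact_mod_cast h2
        omega
  exact LC15.subsingleton_ext_of_weaklyRegular (I := I) (k := 1)
    (by
      rw [pow_one, eq_bot_iff, Submodule.smul_le]
      intro r hr m _
      rw [Submodule.mem_bot]
      exact Module.mem_annihilator.1 hr m) xs A hreg hmem i (by omega)

theorem ext_residue (n : ℕ) (hn : ringKrullDim A = n) :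
    (∀ i, i ≠ n → Subsingleton (Ext (ModuleCat.of A (A ⧸ IsLocalRing.maximalIdeal A)) (ModuleCat.of A A) i)) ∧
      Module.length A (Ext (ModuleCat.of A (A ⧸ IsLocalRing.maximalIdeal A)) (ModuleCat.of A A) n) = 1 := by
  obtain ⟨s, hcard, hspan⟩ := Submodule.FG.exists_span_finset_card_eq_spanFinrank
    (IsLocalRing.maximalIdeal A).fg_of_isNoetherianRing
  have hlist : Ideal.ofList s.toList = IsLocalRing.maximalIdeal A := by
    rw [← hspan]
    show Ideal.span _ = Submodule.span A _
    congr 1
    ext r
    simp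
  have hd : (IsLocalRing.maximalIdeal A).spanFinrank = n := by
    have h := IsRegularLocalRing.spanFinrank_maximalIdeal (R := A)
    rw [hn] at h
    exact_mod_cast h
  have hreg := CAlg1.isWeaklyRegular_params A _ hlist (by rw [Finset.length_toList, hcard])
  have hlen : s.toList.length = n := by rw [Finset.length_toList, hcard, hd]
  obtain ⟨hvan, ⟨e⟩⟩ := ext_top s.toList hreg A
  rw [hlist, hlen] at hvan
  refine ⟨fun i hi => ?_, ?_⟩
  · rcases lt_or_gt_of_ne hi with h | h
    · exact LC15.subsingleton_ext_of_weaklyRegular (I := IsLocalRing.maximalIdeal A) (k := 1)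
        (by
          rw [pow_one, eq_bot_iff, Submodule.smul_le]
          intro r hr m _
          obtain ⟨a, rfl⟩ := Submodule.Quotient.mk_surjective _ m
          rw [Submodule.mem_bot, ← Submodule.Quotient.mk_smul, Submodule.Quotient.mk_eq_zero]
          exact Ideal.mul_mem_right a _ hr)
        s.toList A hreg (fun r hr => hlist ▸ Ideal.subset_span hr) i (hlen.symm ▸ h)
    · exact hvan i h
  · haveI : IsSimpleModule A (A ⧸ IsLocalRing.maximalIdeal A) :=
      isSimpleModule_iff_quot_maximal.2 ⟨_, inferInstance, ⟨LinearEquiv.refl A _⟩⟩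
    rw [hlen] at e
    rw [← (TFCurv38.length_ext_congr (LinearEquiv.toModuleIso (Submodule.quotEquivOfEq _ _ hlist)) (Iso.refl _) n),
      e.length_eq, (Submodule.quotEquivOfEq _ (IsLocalRing.maximalIdeal A) (by simp [hlist])).length_eq]
    exact Module.length_eq_one A _

theorem ext_finiteLength (n : ℕ) (hn : ringKrullDim A = n) (M : Type u) [AddCommGroup M] [Module A M]
    (hM : IsFiniteLength A M) :
    (∀ i, i ≠ n → Subsingleton (Ext (ModuleCat.of A M) (ModuleCat.of A A) i)) ∧
      Module.length A (Ext (ModuleCat.of A M) (ModuleCat.of A A) n) = Module.length A M := by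
  induction hM with
  | @of_subsingleton M _ _ _ =>
    refine ⟨fun i _ => subsingleton_ext_of_subsingleton _ i, ?_⟩
    haveI := subsingleton_ext_of_subsingleton (A := A) (M := M) (ModuleCat.of A A) n
    rw [Module.length_eq_zero, Module.length_eq_zero]
  | @of_simple_quotient M _ _ N _ hN ih =>
    obtain ⟨hv, hl⟩ := ih
    obtain ⟨I, hI, ⟨e⟩⟩ := isSimpleModule_iff_quot_maximal.1 (inferInstance : IsSimpleModule A (M ⧸ N))
    obtain rfl : I = IsLocalRing.maximalIdeal A := IsLocalRing.eq_maximalIdeal hI
    obtain ⟨hqv, hql⟩ := ext_residue n hn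
    have hq : ∀ i, i ≠ n → Subsingleton (Ext (ModuleCat.of A (M ⧸ N)) (ModuleCat.of A A) i) := fun i hi => by
      refine @Equiv.subsingleton _ _ ?_ (hqv i hi)
      exact
        { toFun := fun x => (Ext.mk₀ e.toModuleIso.inv).comp x (zero_add i)
          invFun := fun x => (Ext.mk₀ e.toModuleIso.hom).comp x (zero_add i)
          left_inv := fun x => by
            show (Ext.mk₀ e.toModuleIso.hom).comp ((Ext.mk₀ e.toModuleIso.inv).comp x (zero_add i)) (zero_add i) = x
            rw [Ext.mk₀_comp_mk₀_assoc, Iso.hom_inv_id, Ext.mk₀_id_comp]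
          right_inv := fun x => by
            show (Ext.mk₀ e.toModuleIso.inv).comp ((Ext.mk₀ e.toModuleIso.hom).comp x (zero_add i)) (zero_add i) = x
            rw [Ext.mk₀_comp_mk₀_assoc, Iso.inv_hom_id, Ext.mk₀_id_comp] }
    have hql' : Module.length A (Ext (ModuleCat.of A (M ⧸ N)) (ModuleCat.of A A) n) = 1 :=
      (TFCurv38.length_ext_congr e.toModuleIso (Iso.refl _) n).trans hql
    let S : ShortComplex (ModuleCat.{u} A) := ShortComplex.mk (ModuleCat.ofHom N.subtype) (ModuleCat.ofHom N.mkQ)
      (ModuleCat.hom_ext (LinearMap.ext fun x => (Submodule.Quotient.mk_eq_zero N).2 x.2))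
    have hS : S.ShortExact :=
      { exact := (ShortComplex.moduleCat_exact_iff_range_eq_ker _).2 (by simp [S])
        mono_f := (ModuleCat.mono_iff_injective _).2 N.injective_subtype
        epi_g := (ModuleCat.epi_iff_surjective _).2 N.mkQ_surjective }
    let Y := ModuleCat.of A A
    refine ⟨fun i hi => subsingleton_of_forall_eq 0 fun x => ?_, ?_⟩
    · obtain ⟨y, hy⟩ := Ext.contravariant_sequence_exact₂ hS Y x ((hv i hi).elim _ _)
      rw [← hy, show y = 0 from (hq i hi).elim _ _, Ext.comp_zero]
    · let f : Ext (ModuleCat.of A (M ⧸ N)) Y n →ₗ[A] Ext (ModuleCat.of A M) Y n :=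
        { toFun := fun x => (Ext.mk₀ S.g).comp x (zero_add n)
          map_add' := fun x y => Ext.comp_add _ x y _
          map_smul' := fun r x => Ext.comp_smul _ x _ r }
      let g : Ext (ModuleCat.of A M) Y n →ₗ[A] Ext (ModuleCat.of A N) Y n :=
        { toFun := fun x => (Ext.mk₀ S.f).comp x (zero_add n)
          map_add' := fun x y => Ext.comp_add _ x y _
          map_smul' := fun r x => Ext.comp_smul _ x _ r }
      have hf : Function.Injective f := (injective_iff_map_eq_zero _).2 fun x hx => by
        rcases Nat.eq_zero_or_pos n with rfl | hpos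
        · obtain ⟨φ, rfl⟩ := (Ext.mk₀_bijective _ _).2 x
          have hx' : Ext.mk₀ (S.g ≫ φ) = 0 := (Ext.mk₀_comp_mk₀ S.g φ).symm.trans hx
          have := hS.epi_g
          rw [Ext.mk₀_eq_zero_iff, ← Limits.comp_zero (f := S.g), cancel_epi] at hx'
          rw [hx', Ext.mk₀_zero]
        · obtain ⟨m, rfl⟩ : ∃ m, n = m + 1 := ⟨n - 1, by omega⟩
          obtain ⟨y, hy⟩ := Ext.contravariant_sequence_exact₃ hS Y x hx (n₀ := m) (Nat.add_comm 1 m)
          rw [← hy, show y = 0 from (hv m (by omega)).elim _ _, Ext.comp_zero]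
      have hg : Function.Surjective g := fun x =>
        Ext.contravariant_sequence_exact₁ hS Y x (Nat.add_comm 1 n) ((hq (n + 1) (by omega)).elim _ _)
      have hex : Function.Exact f g := fun x => by
        constructor
        · exact fun hx => Ext.contravariant_sequence_exact₂ hS Y x hx
        · rintro ⟨y, rfl⟩
          show (Ext.mk₀ S.f).comp ((Ext.mk₀ S.g).comp y (zero_add n)) (zero_add n) = 0
          rw [Ext.mk₀_comp_mk₀_assoc, S.zero, Ext.mk₀_zero, Ext.zero_comp]
      rw [Module.length_eq_add_of_exact f g hf hg hex, hql', hl,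
        Module.length_eq_add_of_exact N.subtype N.mkQ N.injective_subtype N.mkQ_surjective
          (LinearMap.exact_subtype_mkQ N), Module.length_eq_one A (M ⧸ N), add_comm]

end Groth.Agent.ExtReg38
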