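import Groth.Agent.ExtReg38.Step
import Mathlib.Data.Nat.Choose.Basic

/-! Extensions of the quotient by a regular sequence into a module killed by it. -/

set_option autoImplicit false

noncomputable section

namespace Groth.Agent.ExtReg38

open CategoryTheory Abelian RingTheory.Sequence

universe u

variable {A : Type u} [CommRing A] (T : Ideal A) {M : Type u} [AddCommGroup M] [Module A M]
  (hM : ∀ t ∈ T, ∀ m : M, t • m = 0)

/-- The map from `A/T` sending `1` to `m`. -/
def pointMap : M →ₗ[A] ((A ⧸ T) →ₗ[A] M) where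
  toFun m := Submodule.liftQ T (LinearMap.toSpanSingleton A M m) fun t ht => hM t ht m
  map_add' m m' := Submodule.linearMap_qext _ (LinearMap.ext fun a => smul_add a m m')
  map_smul' r m := Submodule.linearMap_qext _ (LinearMap.ext fun a => smul_comm a r m)

theorem pointMap_mk (m : M) (a : A) : pointMap T hM m (Submodule.Quotient.mk a) = a • m := rfl

variable {J : Ideal A} {i C : ℕ}

/-- The map given by a family of classes. -/
def classMap (e : Fin C → Ext (ModuleCat.of A (A ⧸ J)) (ModuleCat.of A (A ⧸ T)) i) :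
    (Fin C → M) →ₗ[A] Ext (ModuleCat.of A (A ⧸ J)) (ModuleCat.of A M) i where
  toFun m := ∑ j, (e j).comp (Ext.mk₀ (ModuleCat.ofHom (pointMap T hM (m j)))) (add_zero i)
  map_add' m m' := by
    rw [← Finset.sum_add_distrib]
    refine Finset.sum_congr rfl fun j _ => ?_
    rw [← Ext.comp_add]
    congr 1
    rw [← Ext.mk₀_add]
    congr 1
    exact ModuleCat.hom_ext (map_add (pointMap T hM) (m j) (m' j))
  map_smul' r m := by
    rw [RingHom.id_apply, Finset.smul_sum]
    refine Finset.sum_congr rfl fun j _ => ?_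
    rw [← Ext.comp_smul]
    congr 1
    rw [← Ext.mk₀_smul]
    congr 1
    exact ModuleCat.hom_ext (map_smul (pointMap T hM) r (m j))

theorem classMap_apply (e : Fin C → Ext (ModuleCat.of A (A ⧸ J)) (ModuleCat.of A (A ⧸ T)) i) (m : Fin C → M) :
    classMap T hM e m = ∑ j, (e j).comp (Ext.mk₀ (ModuleCat.ofHom (pointMap T hM (m j)))) (add_zero i) := rfl

/-- There are classes generating the extensions freely, functorially in the killed module. -/
def HasClasses (J : Ideal A) (i C : ℕ) : Prop :=
  ∃ e : Fin C → Ext (ModuleCat.of A (A ⧸ J)) (ModuleCat.of A (A ⧸ T)) i,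
    ∀ (M : Type u) [AddCommGroup M] [Module A M] (hM : ∀ t ∈ T, ∀ m : M, t • m = 0),
      Function.Bijective (classMap T hM e)

theorem hasClasses_zero (hJ : J ≤ T) : HasClasses T J 0 1 := by
  refine ⟨fun _ => Ext.mk₀ (ModuleCat.ofHom (projMap hJ)), fun M _ _ hM => ?_⟩
  have hcl : ∀ m : Fin 1 → M, classMap T hM (fun _ => Ext.mk₀ (ModuleCat.ofHom (projMap hJ))) m =
      Ext.mk₀ (ModuleCat.ofHom (pointMap T hM (m 0) ∘ₗ projMap hJ)) := fun m => by
    rw [classMap_apply, Fin.sum_univ_one, Ext.mk₀_comp_mk₀]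
    rfl
  constructor
  · intro m m' h
    rw [hcl, hcl] at h
    have h' := LinearMap.congr_fun (congrArg ModuleCat.Hom.hom ((Ext.mk₀_bijective _ _).1 h)) (Submodule.Quotient.mk 1)
    refine funext fun j => ?_
    rw [Subsingleton.elim j 0]
    have h'' : (1 : A) • m 0 = (1 : A) • m' 0 := h'
    rwa [one_smul, one_smul] at h''
  · intro z
    obtain ⟨f, rfl⟩ := (Ext.mk₀_bijective _ _).2 z
    refine ⟨fun _ => f.hom (Submodule.Quotient.mk 1), ?_⟩
    rw [hcl]
    congr 1
    refine ModuleCat.hom_ext (Submodule.linearMap_qext _ (LinearMap.ext_ring ?_))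
    show (1 : A) • f.hom (Submodule.Quotient.mk 1) = _
    rw [one_smul]
    rfl

theorem smul_eq_zero_of_classes {e : Fin C → Ext (ModuleCat.of A (A ⧸ J)) (ModuleCat.of A (A ⧸ T)) i}
    (he : Function.Surjective (classMap T hM e)) {t : A} (ht : t ∈ T)
    (y : Ext (ModuleCat.of A (A ⧸ J)) (ModuleCat.of A M) i) : t • y = 0 := by
  obtain ⟨m, rfl⟩ := he y
  rw [← map_smul, show t • m = 0 from funext fun j => hM t ht (m j), map_zero]

theorem hasClasses_step {x : A} (hx : IsSMulRegular (A ⧸ J) x) (hxT : x ∈ T) {C' : ℕ} (h₁ : HasClasses T J i C)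
    (h₂ : HasClasses T J (i + 1) C') : HasClasses T (J ⊔ Ideal.span {x}) (i + 1) (C + C') := by
  obtain ⟨e, he⟩ := h₁
  obtain ⟨e', he'⟩ := h₂
  have hT : ∀ t ∈ T, ∀ m : A ⧸ T, t • m = 0 := fun t ht m => by
    obtain ⟨a, rfl⟩ := Submodule.Quotient.mk_surjective _ m
    rw [← Submodule.Quotient.mk_smul, Submodule.Quotient.mk_eq_zero]
    exact Ideal.mul_mem_right _ _ ht
  choose l hl using fun j => exists_restrict_eq hx (ModuleCat.of A (A ⧸ T)) (e' j)
    (smul_eq_zero_of_classes T hT (he' _ hT).2 hxT (e' j))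
  let f : Fin (C + C') → Ext (ModuleCat.of A (A ⧸ (J ⊔ Ideal.span {x}))) (ModuleCat.of A (A ⧸ T)) (i + 1) :=
    Fin.addCases (fun j => delta hx _ i (e j)) l
  refine ⟨f, fun M _ _ hM => ?_⟩
  let Y := ModuleCat.of A M
  have hsum : ∀ m : Fin (C + C') → M, classMap T hM f m =
      delta hx Y i (classMap T hM e fun j => m (Fin.castAdd C' j)) +
        ∑ j, (l j).comp (Ext.mk₀ (ModuleCat.ofHom (pointMap T hM (m (Fin.natAdd C j))))) (add_zero (i + 1)) := by
    intro m
    rw [classMap_apply, Fin.sum_univ_add]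
    congr 1
    · rw [classMap_apply, map_sum]
      refine Finset.sum_congr rfl fun j _ => ?_
      simp only [f, Fin.addCases_left, delta, LinearMap.coe_mk, AddHom.coe_mk]
      exact Ext.comp_assoc_of_third_deg_zero _ _ _ _
    · refine Finset.sum_congr rfl fun j _ => ?_
      simp only [f, Fin.addCases_right]
  have hres : ∀ m : Fin (C + C') → M, (Ext.mk₀ (stepShort J x).g).comp (classMap T hM f m) (zero_add (i + 1)) =
      classMap T hM e' fun j => m (Fin.natAdd C j) := by
    intro m
    rw [hsum, Ext.comp_add]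
    have h0 : (Ext.mk₀ (stepShort J x).g).comp
        (delta hx Y i (classMap T hM e fun j => m (Fin.castAdd C' j))) (zero_add (i + 1)) = 0 := by
      simp only [delta, LinearMap.coe_mk, AddHom.coe_mk]
      exact (stepShort_shortExact hx).comp_extClass_assoc _ _
    rw [h0, zero_add, classMap_apply, Ext.comp_sum]
    refine Finset.sum_congr rfl fun j _ => ?_
    rw [← hl j, Ext.comp_assoc_of_third_deg_zero]
  constructor
  · refine (injective_iff_map_eq_zero _).2 fun m hm => ?_
    have h2 : (fun j => m (Fin.natAdd C j)) = 0 := (he' M hM).1 (by rw [← hres, hm, Ext.comp_zero, map_zero])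
    rw [hsum] at hm
    have hzero : ∑ j, (l j).comp (Ext.mk₀ (ModuleCat.ofHom (pointMap T hM (m (Fin.natAdd C j))))) (add_zero (i + 1)) = 0 :=
      Finset.sum_eq_zero fun j _ => by
        rw [show m (Fin.natAdd C j) = 0 from congrFun h2 j, map_zero, ModuleCat.ofHom_zero, Ext.mk₀_zero, Ext.comp_zero]
    rw [hzero, add_zero, delta_eq_zero_iff] at hm
    obtain ⟨y, hy⟩ := hm
    rw [smul_eq_zero_of_classes T hM (he M hM).2 hxT y] at hy
    have h1 : (fun j => m (Fin.castAdd C' j)) = 0 := (he M hM).1 (by rw [← hy, map_zero])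
    exact funext fun j => Fin.addCases (fun j => congrFun h1 j) (fun j => congrFun h2 j) j
  · intro z
    obtain ⟨m', hm'⟩ := (he' M hM).2 ((Ext.mk₀ (stepShort J x).g).comp z (zero_add (i + 1)))
    let m₀ : Fin (C + C') → M := Fin.addCases 0 m'
    obtain ⟨w, hw⟩ := exists_delta_eq hx Y (z - classMap T hM f m₀) (by
      rw [sub_eq_add_neg, Ext.comp_add, Ext.comp_neg, ← sub_eq_add_neg, hres, sub_eq_zero, ← hm']
      congr 1
      refine funext fun j => ?_
      simp only [m₀, Fin.addCases_right])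
    obtain ⟨m₁, hm₁⟩ := (he M hM).2 w
    refine ⟨m₀ + Fin.addCases m₁ 0, ?_⟩
    rw [map_add, hsum (Fin.addCases m₁ 0)]
    have hzero : ∑ j, (l j).comp (Ext.mk₀ (ModuleCat.ofHom
        (pointMap T hM ((Fin.addCases m₁ 0 : Fin (C + C') → M) (Fin.natAdd C j))))) (add_zero (i + 1)) = 0 :=
      Finset.sum_eq_zero fun j _ => by
        simp only [Fin.addCases_right]
        rw [Pi.zero_apply, map_zero, ModuleCat.ofHom_zero, Ext.mk₀_zero, Ext.comp_zero]
    rw [hzero, add_zero, show (fun j => (Fin.addCases m₁ 0 : Fin (C + C') → M) (Fin.castAdd C' j)) = m₁ from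
      funext fun j => Fin.addCases_left j, hm₁, hw, add_sub_cancel]

theorem hasClasses_regular (xs : List A) (hreg : IsWeaklyRegular A xs) (hxs : Ideal.ofList xs ≤ T) :
    ∀ i, HasClasses T (Ideal.ofList xs) i (xs.length.choose i) := by
  induction xs using List.reverseRecOn with
  | nil =>
    intro i
    rcases Nat.eq_zero_or_pos i with rfl | hi
    · simpa using hasClasses_zero T hxs
    · obtain ⟨j, rfl⟩ : ∃ j, i = j + 1 := ⟨i - 1, by omega⟩
      have : Module.Projective A (A ⧸ Ideal.ofList ([] : List A)) :=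
        Module.Projective.of_equiv ((Submodule.quotEquivOfEqBot _ Ideal.ofList_nil).symm : A ≃ₗ[A] _)
      rw [List.length_nil, Nat.choose_zero_succ]
      refine ⟨Fin.elim0, fun M _ _ hM => ⟨fun a b _ => funext fun j => j.elim0, fun z => ⟨0, ?_⟩⟩⟩
      rw [map_zero, Ext.eq_zero_of_projective z]
  | append_singleton l x ih =>
    obtain ⟨hl, hx⟩ := regular_concat hreg
    rw [ofList_concat] at hxs ⊢
    intro i
    rw [List.length_append, List.length_singleton]
    rcases Nat.eq_zero_or_pos i with rfl | hi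
    · simpa using hasClasses_zero T hxs
    · obtain ⟨j, rfl⟩ : ∃ j, i = j + 1 := ⟨i - 1, by omega⟩
      rw [Nat.choose_succ_succ]
      exact hasClasses_step T hx (hxs (Ideal.mem_sup_right (Ideal.mem_span_singleton_self x)))
        (ih hl (le_sup_left.trans hxs) j) (ih hl (le_sup_left.trans hxs) (j + 1))

end Groth.Agent.ExtReg38
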