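import Groth.Agent.ExtReg38.Step
import Mathlib.RingTheory.Finiteness.Basic
import Mathlib.LinearAlgebra.StdBasis

/-! The top extension group as maps out of a module killed by an ideal. -/

set_option autoImplicit false

noncomputable section

namespace Groth.Agent.ExtReg38

open CategoryTheory Abelian

universe u

theorem ext_top_bijective (A : Type u) [CommRing A] [IsNoetherianRing A] (p : ℕ) (J : Ideal A)
    (hvan : ∀ (Q : Type u) [AddCommGroup Q] [Module A Q] [Module.Finite A Q], (∀ r ∈ J, ∀ q : Q, r • q = 0) →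
      ∀ i, i < p → Subsingleton (Ext (ModuleCat.of A Q) (ModuleCat.of A A) i))
    (M : Type u) [AddCommGroup M] [Module A M] [Module.Finite A M] (hJM : J • (⊤ : Submodule A M) = ⊥) :
    Function.Injective (fun ξ : Ext (ModuleCat.of A M) (ModuleCat.of A A) p => fun u : (A ⧸ J) →ₗ[A] M =>
        (Ext.mk₀ (ModuleCat.ofHom u)).comp ξ (zero_add p)) ∧
      ∀ g : ((A ⧸ J) →ₗ[A] M) →ₗ[A] Ext (ModuleCat.of A (A ⧸ J)) (ModuleCat.of A A) p,
        ∃ ξ : Ext (ModuleCat.of A M) (ModuleCat.of A A) p,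
          ∀ u : (A ⧸ J) →ₗ[A] M, g u = (Ext.mk₀ (ModuleCat.ofHom u)).comp ξ (zero_add p) := by
  classical
  -- a cover by a power of the quotient, and its kernel
  have cover : ∀ (Q : Type u) [AddCommGroup Q] [Module A Q] [Module.Finite A Q], (∀ r ∈ J, ∀ q : Q, r • q = 0) →
      ∃ (b : ℕ) (π : (Fin b → A ⧸ J) →ₗ[A] Q), Function.Surjective π := by
    intro Q _ _ _ hQ
    obtain ⟨b, s, hs⟩ := Module.Finite.exists_fin (R := A) (M := Q)
    let π : (Fin b → A ⧸ J) →ₗ[A] Q := ∑ j, (Submodule.liftQ J (LinearMap.toSpanSingleton A Q (s j))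
      fun r hr => hQ r hr _) ∘ₗ LinearMap.proj j
    refine ⟨b, π, LinearMap.range_eq_top.1 (eq_top_iff.2 (hs ▸ Submodule.span_le.2 ?_))⟩
    rintro _ ⟨j, rfl⟩
    refine ⟨Pi.single j (Submodule.Quotient.mk 1), ?_⟩
    simp only [π, LinearMap.sum_apply, LinearMap.coe_comp, Function.comp_apply, LinearMap.coe_proj, Function.eval]
    rw [Finset.sum_eq_single j]
    · rw [Pi.single_eq_same, Submodule.liftQ_apply, LinearMap.toSpanSingleton_apply, one_smul]
    · intro j' _ hj'
      rw [Pi.single_eq_of_ne hj', map_zero]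
    · simp
  -- pullback along a linear combination
  let pull : ∀ {Q : Type u} [AddCommGroup Q] [Module A Q], Ext (ModuleCat.of A Q) (ModuleCat.of A A) p →
      ((A ⧸ J) →ₗ[A] Q) → Ext (ModuleCat.of A (A ⧸ J)) (ModuleCat.of A A) p :=
    fun ξ u => (Ext.mk₀ (ModuleCat.ofHom u)).comp ξ (zero_add p)
  have inj : ∀ (Q : Type u) [AddCommGroup Q] [Module A Q] [Module.Finite A Q], (∀ r ∈ J, ∀ q : Q, r • q = 0) →
      ∀ ξ : Ext (ModuleCat.of A Q) (ModuleCat.of A A) p, (∀ u, pull ξ u = 0) → ξ = 0 := by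
    intro Q _ _ _ hQ ξ hξ
    obtain ⟨b, π, hπ⟩ := cover Q hQ
    let L := LinearMap.ker π
    let S : ShortComplex (ModuleCat.{u} A) := ShortComplex.mk (ModuleCat.ofHom L.subtype) (ModuleCat.ofHom π)
      (ModuleCat.hom_ext (LinearMap.ext fun x => x.2))
    have hS : S.ShortExact :=
      { exact := (ShortComplex.moduleCat_exact_iff_range_eq_ker _).2 (Submodule.range_subtype L)
        mono_f := (ModuleCat.mono_iff_injective _).2 L.injective_subtype
        epi_g := (ModuleCat.epi_iff_surjective _).2 hπ }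
    have hid : (∑ j, ModuleCat.ofHom (LinearMap.proj j : (Fin b → A ⧸ J) →ₗ[A] A ⧸ J) ≫
        ModuleCat.ofHom (LinearMap.single A (fun _ : Fin b => A ⧸ J) j)) = 𝟙 (ModuleCat.of A (Fin b → A ⧸ J)) := by
      refine ModuleCat.hom_ext (LinearMap.ext fun x => ?_)
      simp [ModuleCat.hom_sum, Finset.univ_sum_single]
    have h1 : (Ext.mk₀ S.g).comp ξ (zero_add p) = 0 := by
      rw [show S.g = 𝟙 (ModuleCat.of A (Fin b → A ⧸ J)) ≫ ModuleCat.ofHom π from (Category.id_comp _).symm, ← hid,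
        Preadditive.sum_comp, Ext.mk₀_sum, Ext.sum_comp]
      refine Finset.sum_eq_zero fun j _ => ?_
      rw [Category.assoc, ← Ext.mk₀_comp_mk₀_assoc, show ModuleCat.ofHom (LinearMap.single A (fun _ : Fin b => A ⧸ J) j) ≫
        ModuleCat.ofHom π = ModuleCat.ofHom (π ∘ₗ LinearMap.single A (fun _ : Fin b => A ⧸ J) j) from rfl]
      rw [show (Ext.mk₀ (ModuleCat.ofHom (π ∘ₗ LinearMap.single A (fun _ : Fin b => A ⧸ J) j))).comp ξ (zero_add p) = 0
        from hξ _, Ext.comp_zero]
    rcases Nat.eq_zero_or_pos p with rfl | hp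
    · obtain ⟨φ, rfl⟩ := (Ext.mk₀_bijective _ _).2 ξ
      have h2 : Ext.mk₀ (S.g ≫ φ) = 0 := (Ext.mk₀_comp_mk₀ S.g φ).symm.trans h1
      have := hS.epi_g
      rw [Ext.mk₀_eq_zero_iff, ← Limits.comp_zero (f := S.g), cancel_epi] at h2
      rw [h2, Ext.mk₀_zero]
    · obtain ⟨m, rfl⟩ : ∃ m, p = m + 1 := ⟨p - 1, by omega⟩
      obtain ⟨y, hy⟩ := Ext.contravariant_sequence_exact₃ hS _ ξ h1 (n₀ := m) (Nat.add_comm 1 m)
      have : Module.Finite A L := Module.Finite.of_fg (IsNoetherian.noetherian L)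
      rw [← hy, show y = 0 from (hvan L (fun r hr q => Subtype.ext (funext fun j => by
        obtain ⟨a, ha⟩ := Submodule.Quotient.mk_surjective _ ((q : Fin b → A ⧸ J) j)
        show r • (q : Fin b → A ⧸ J) j = 0
        rw [← ha, ← Submodule.Quotient.mk_smul, Submodule.Quotient.mk_eq_zero]
        exact Ideal.mul_mem_right a _ hr)) m (by omega)).elim _ _, Ext.comp_zero]
  have hJM' : ∀ r ∈ J, ∀ q : M, r • q = 0 := fun r hr q => by
    have h := Submodule.smul_mem_smul hr (Submodule.mem_top (R := A) (x := q))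
    rwa [hJM] at h
  constructor
  · intro ξ ξ' h
    refine sub_eq_zero.1 (inj M hJM' _ fun u => ?_)
    show (Ext.mk₀ (ModuleCat.ofHom u)).comp (ξ - ξ') (zero_add p) = 0
    rw [sub_eq_add_neg, Ext.comp_add, Ext.comp_neg, ← sub_eq_add_neg, sub_eq_zero]
    exact congrFun h u
  · intro g
    obtain ⟨b, π, hπ⟩ := cover M hJM'
    let L := LinearMap.ker π
    have : Module.Finite A L := Module.Finite.of_fg (IsNoetherian.noetherian L)
    let S : ShortComplex (ModuleCat.{u} A) := ShortComplex.mk (ModuleCat.ofHom L.subtype) (ModuleCat.ofHom π)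
      (ModuleCat.hom_ext (LinearMap.ext fun x => x.2))
    have hS : S.ShortExact :=
      { exact := (ShortComplex.moduleCat_exact_iff_range_eq_ker _).2 (Submodule.range_subtype L)
        mono_f := (ModuleCat.mono_iff_injective _).2 L.injective_subtype
        epi_g := (ModuleCat.epi_iff_surjective _).2 hπ }
    let ζ : Ext (ModuleCat.of A (Fin b → A ⧸ J)) (ModuleCat.of A A) p :=
      ∑ j, (Ext.mk₀ (ModuleCat.ofHom (LinearMap.proj j : (Fin b → A ⧸ J) →ₗ[A] A ⧸ J))).comp
        (g (π ∘ₗ LinearMap.single A (fun _ : Fin b => A ⧸ J) j)) (zero_add p)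
    have hζ : ∀ w : (A ⧸ J) →ₗ[A] (Fin b → A ⧸ J),
        (Ext.mk₀ (ModuleCat.ofHom w)).comp ζ (zero_add p) = g (π ∘ₗ w) := by
      intro w
      choose a ha using fun j => Submodule.Quotient.mk_surjective J (w (Submodule.Quotient.mk 1) j)
      have hw : ∀ j, (LinearMap.proj j : (Fin b → A ⧸ J) →ₗ[A] A ⧸ J) ∘ₗ w = a j • LinearMap.id := fun j =>
        Submodule.linearMap_qext _ (LinearMap.ext_ring (by
          show w (Submodule.Quotient.mk 1) j = a j • Submodule.Quotient.mk 1
          rw [← ha, ← Submodule.Quotient.mk_smul, smul_eq_mul, mul_one]))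
      have hsum : π ∘ₗ w = ∑ j, a j • (π ∘ₗ LinearMap.single A (fun _ : Fin b => A ⧸ J) j) := by
        refine LinearMap.ext fun x => ?_
        have hx : w x = ∑ j, a j • LinearMap.single A (fun _ : Fin b => A ⧸ J) j x := by
          funext i
          simp only [Finset.sum_apply, Pi.smul_apply, LinearMap.coe_single]
          rw [Finset.sum_eq_single i]
          · rw [Pi.single_eq_same]
            exact LinearMap.congr_fun (hw i) x
          · intro j _ hj
            rw [Pi.single_eq_of_ne (Ne.symm hj), smul_zero]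
          · simp
        simp only [LinearMap.coe_comp, Function.comp_apply, LinearMap.sum_apply, LinearMap.smul_apply, hx, map_sum,
          map_smul]
      rw [hsum, map_sum, Ext.comp_sum]
      refine Finset.sum_congr rfl fun j _ => ?_
      rw [map_smul, Ext.mk₀_comp_mk₀_assoc,
        show ModuleCat.ofHom w ≫ ModuleCat.ofHom (LinearMap.proj j : (Fin b → A ⧸ J) →ₗ[A] A ⧸ J) =
          a j • 𝟙 (ModuleCat.of A (A ⧸ J)) from ModuleCat.hom_ext (hw j),
        Ext.mk₀_smul, Ext.smul_comp, Ext.mk₀_id_comp]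
    have hL : ∀ r ∈ J, ∀ q : L, r • q = 0 := fun r hr q => Subtype.ext (funext fun j => by
      obtain ⟨a, ha⟩ := Submodule.Quotient.mk_surjective _ ((q : Fin b → A ⧸ J) j)
      show r • (q : Fin b → A ⧸ J) j = 0
      rw [← ha, ← Submodule.Quotient.mk_smul, Submodule.Quotient.mk_eq_zero]
      exact Ideal.mul_mem_right a _ hr)
    obtain ⟨ξ, hξ⟩ := Ext.contravariant_sequence_exact₂ hS _ ζ (inj L hL _ fun v => by
      show (Ext.mk₀ (ModuleCat.ofHom v)).comp ((Ext.mk₀ S.f).comp ζ (zero_add p)) (zero_add p) = 0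
      rw [Ext.mk₀_comp_mk₀_assoc, show ModuleCat.ofHom v ≫ S.f = ModuleCat.ofHom (L.subtype ∘ₗ v) from rfl, hζ,
        show π ∘ₗ (L.subtype ∘ₗ v) = 0 from LinearMap.ext fun x => (v x).2, map_zero])
    refine ⟨ξ, fun u => ?_⟩
    obtain ⟨y, hy⟩ := hπ (u (Submodule.Quotient.mk 1))
    let w : (A ⧸ J) →ₗ[A] (Fin b → A ⧸ J) := J.liftQ (LinearMap.toSpanSingleton A _ y) fun r hr => funext fun j => by
      obtain ⟨a, ha⟩ := Submodule.Quotient.mk_surjective _ (y j)
      show r • y j = 0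
      rw [← ha, ← Submodule.Quotient.mk_smul, Submodule.Quotient.mk_eq_zero]
      exact Ideal.mul_mem_right a _ hr
    have hu : u = π ∘ₗ w := Submodule.linearMap_qext _ (LinearMap.ext_ring (by
      show u (Submodule.Quotient.mk 1) = π ((1 : A) • y)
      rw [one_smul, hy]))
    rw [hu, ← hζ, ← hξ, Ext.mk₀_comp_mk₀_assoc]
    rfl

end Groth.Agent.ExtReg38
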