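import Mathlib.Algebra.Homology.DerivedCategory.Ext.ExactSequences
import Mathlib.Algebra.Homology.DerivedCategory.Ext.EnoughProjectives
import Mathlib.Algebra.Homology.DerivedCategory.Ext.Linear
import Mathlib.Algebra.Category.ModuleCat.Ext.HasExt
import Mathlib.Algebra.Category.ModuleCat.Projective
import Mathlib.Algebra.Homology.ShortComplex.ModuleCat
import Mathlib.RingTheory.Regular.RegularSequence
import Mathlib.RingTheory.Ideal.Quotient.Operations

/-! One step of a regular sequence in the first argument of the extension groups. -/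

set_option autoImplicit false

noncomputable section

namespace Groth.Agent.ExtReg38

open CategoryTheory Abelian RingTheory.Sequence

universe u

variable {A : Type u} [CommRing A]

theorem ofList_concat (l : List A) (x : A) : Ideal.ofList (l ++ [x]) = Ideal.ofList l ⊔ Ideal.span {x} := by
  rw [Ideal.ofList_append, Ideal.ofList_singleton]

theorem regular_concat {l : List A} {x : A} (h : IsWeaklyRegular A (l ++ [x])) :
    IsWeaklyRegular A l ∧ IsSMulRegular (A ⧸ Ideal.ofList l) x := by
  obtain ⟨h1, h2⟩ := (isWeaklyRegular_append_iff A l [x]).1 h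
  refine ⟨h1, ?_⟩
  have h3 := (isWeaklyRegular_singleton_iff _ x).1 h2
  exact ((Submodule.quotEquivOfEq _ _ (by simp)).isSMulRegular_congr x).1 h3

/-- Multiplication by `x` on `A/J`. -/
abbrev mulMap (J : Ideal A) (x : A) : (A ⧸ J) →ₗ[A] (A ⧸ J) := x • LinearMap.id

/-- The projection `A/J → A/J'`. -/
abbrev projMap {J J' : Ideal A} (h : J ≤ J') : (A ⧸ J) →ₗ[A] (A ⧸ J') := Submodule.factor h

theorem range_mulMap (J : Ideal A) (x : A) :
    LinearMap.range (mulMap J x) = LinearMap.ker (projMap (J := J) (J' := J ⊔ Ideal.span {x}) le_sup_left) := by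
  ext q
  obtain ⟨a, rfl⟩ := Submodule.Quotient.mk_surjective _ q
  rw [LinearMap.mem_ker, show projMap (J := J) (J' := J ⊔ Ideal.span {x}) le_sup_left (Submodule.Quotient.mk a) =
    Submodule.Quotient.mk a from rfl, Submodule.Quotient.mk_eq_zero]
  constructor
  · rintro ⟨r, hr⟩
    obtain ⟨b, rfl⟩ := Submodule.Quotient.mk_surjective _ r
    have h : x * b - a ∈ J := (Submodule.Quotient.eq J).1 hr
    have ha : a = x * b - (x * b - a) := by ring
    rw [ha]
    exact sub_mem (Ideal.mem_sup_right (Ideal.mul_mem_right _ _ (Ideal.mem_span_singleton_self x)))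
      (Ideal.mem_sup_left h)
  · intro h
    obtain ⟨j, hj, y, hy, rfl⟩ := Submodule.mem_sup.1 h
    obtain ⟨b, rfl⟩ := Ideal.mem_span_singleton'.1 hy
    refine ⟨Submodule.Quotient.mk b, (Submodule.Quotient.eq J).2 ?_⟩
    show x * b - (j + b * x) ∈ J
    rw [show x * b - (j + b * x) = -j by ring]
    exact neg_mem hj

/-- `0 → A/J → A/J → A/(J+(x)) → 0`. -/
abbrev stepShort (J : Ideal A) (x : A) : ShortComplex (ModuleCat.{u} A) :=
  ShortComplex.mk (ModuleCat.ofHom (mulMap J x))
    (ModuleCat.ofHom (projMap (J := J) (J' := J ⊔ Ideal.span {x}) le_sup_left))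
    (ModuleCat.hom_ext (LinearMap.range_le_ker_iff.1 (range_mulMap J x).le))

theorem stepShort_shortExact {J : Ideal A} {x : A} (hx : IsSMulRegular (A ⧸ J) x) : (stepShort J x).ShortExact :=
  { exact := (ShortComplex.moduleCat_exact_iff_range_eq_ker _).2 (range_mulMap J x)
    mono_f := (ModuleCat.mono_iff_injective _).2 hx
    epi_g := (ModuleCat.epi_iff_surjective _).2 (Submodule.factor_surjective le_sup_left) }

variable {J : Ideal A} {x : A} (hx : IsSMulRegular (A ⧸ J) x) (Y : ModuleCat.{u} A)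

theorem mulMap_comp {i : ℕ} (y : Ext (ModuleCat.of A (A ⧸ J)) Y i) :
    (Ext.mk₀ (stepShort J x).f).comp y (zero_add i) = x • y := by
  rw [show (stepShort J x).f = x • 𝟙 (ModuleCat.of A (A ⧸ J)) from rfl, Ext.mk₀_smul, Ext.smul_comp, Ext.mk₀_id_comp]

/-- The connecting map. -/
def delta (i : ℕ) :
    Ext (ModuleCat.of A (A ⧸ J)) Y i →ₗ[A] Ext (ModuleCat.of A (A ⧸ (J ⊔ Ideal.span {x}))) Y (i + 1) where
  toFun z := (stepShort_shortExact hx).extClass.comp z (Nat.add_comm 1 i)
  map_add' a b := Ext.comp_add _ a b _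
  map_smul' r a := Ext.comp_smul _ a _ r

theorem delta_eq_zero_iff {i : ℕ} (z : Ext (ModuleCat.of A (A ⧸ J)) Y i) :
    delta hx Y i z = 0 ↔ ∃ y, x • y = z := by
  constructor
  · intro h
    obtain ⟨y, hy⟩ := Ext.contravariant_sequence_exact₁ (stepShort_shortExact hx) Y z (Nat.add_comm 1 i) h
    exact ⟨y, (mulMap_comp Y y).symm.trans hy⟩
  · rintro ⟨y, rfl⟩
    rw [← mulMap_comp]
    exact ShortComplex.ShortExact.extClass_comp_assoc _ _ (h := Nat.add_comm 1 i)

theorem exists_delta_eq {i : ℕ} (z : Ext (ModuleCat.of A (A ⧸ (J ⊔ Ideal.span {x}))) Y (i + 1))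
    (h : (Ext.mk₀ (stepShort J x).g).comp z (zero_add _) = 0) : ∃ w, delta hx Y i w = z :=
  Ext.contravariant_sequence_exact₃ (stepShort_shortExact hx) Y z h (Nat.add_comm 1 i)

include hx in
theorem exists_restrict_eq {i : ℕ} (y : Ext (ModuleCat.of A (A ⧸ J)) Y i) (h : x • y = 0) :
    ∃ z : Ext (ModuleCat.of A (A ⧸ (J ⊔ Ideal.span {x}))) Y i, (Ext.mk₀ (stepShort J x).g).comp z (zero_add i) = y :=
  Ext.contravariant_sequence_exact₂ (stepShort_shortExact hx) Y y ((mulMap_comp Y y).trans h)

end Groth.Agent.ExtReg38
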