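import Groth.Agent.ExtReg38.Step
import Groth.Agent.TorMod7.Horseshoe
import Mathlib.CategoryTheory.Monoidal.Tor
import Mathlib.Algebra.Category.ModuleCat.Monoidal.Closed
import Mathlib.Algebra.Homology.Linear
import Mathlib.Algebra.Homology.ShortComplex.Linear
import Mathlib.Algebra.Category.ModuleCat.Kernels
import Mathlib.LinearAlgebra.TensorProduct.Associator

/-! The top torsion product of the quotient by a regular sequence. -/

set_option autoImplicit false

noncomputable section

namespace Groth.Agent.ExtReg38

open CategoryTheory Limits MonoidalCategory RingTheory.Sequence Groth.Agent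

universe u

variable {A : Type u} [CommRing A]

theorem homologyMap_smul_id (K : ChainComplex (ModuleCat.{u} A) ℕ) (n : ℕ) (x : A) :
    HomologicalComplex.homologyMap (x • 𝟙 K) n = x • 𝟙 (K.homology n) := by
  have h : (HomologicalComplex.shortComplexFunctor (ModuleCat.{u} A) (ComplexShape.down ℕ) n).map (x • 𝟙 K) =
      x • 𝟙 (K.sc n) := rfl
  show ShortComplex.homologyMap ((HomologicalComplex.shortComplexFunctor (ModuleCat.{u} A) (ComplexShape.down ℕ) n).map
    (x • 𝟙 K)) = _
  rw [h]
  exact (ShortComplex.homologyMap_smul (φ := 𝟙 (K.sc n)) x).trans (congrArg (x • ·) (ShortComplex.homologyMap_id _))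

theorem leftDerived_map_smul_id (F : ModuleCat.{u} A ⥤ ModuleCat.{u} A) [F.Additive] [F.Linear A]
    (X : ModuleCat.{u} A) (n : ℕ) (x : A) :
    (F.leftDerived n).map (x • 𝟙 X) = x • 𝟙 ((F.leftDerived n).obj X) := by
  let P := projectiveResolution X
  have h := ProjectiveResolution.isoLeftDerivedObj_hom_naturality (x • 𝟙 X) P P (x • 𝟙 P.complex)
    (ModuleCat.hom_ext (LinearMap.ext fun z => map_smul (P.π.f 0).hom x z)) F n
  rw [← cancel_mono (P.isoLeftDerivedObj F n).hom, h, Functor.comp_map, Functor.map_smul, CategoryTheory.Functor.map_id,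
    HomologicalComplex.homologyFunctor_map, homologyMap_smul_id]
  exact ModuleCat.hom_ext (LinearMap.ext fun z => (map_smul (P.isoLeftDerivedObj F n).hom.hom x z).symm)

theorem tor_top (xs : List A) (hreg : IsWeaklyRegular A xs) (M : Type u) [AddCommGroup M] [Module A M] :
    (∀ i, xs.length < i → IsZero (((Tor' (ModuleCat.{u} A) i).obj (ModuleCat.of A (A ⧸ Ideal.ofList xs))).obj
        (ModuleCat.of A M))) ∧
      Nonempty (↑(((Tor' (ModuleCat.{u} A) xs.length).obj (ModuleCat.of A (A ⧸ Ideal.ofList xs))).obj
        (ModuleCat.of A M)) ≃ₗ[A] ((A ⧸ Ideal.ofList xs) →ₗ[A] M)) := by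
  let F := (tensoringRight (ModuleCat.{u} A)).obj (ModuleCat.of A M)
  have : F.Linear A := inferInstanceAs ((tensorRight (ModuleCat.of A M)).Linear A)
  have : PreservesFiniteColimits F := ⟨fun J _ _ =>
    preservesColimitsOfShape_of_natIso (BraidedCategory.tensorLeftIsoTensorRight (ModuleCat.of A M))⟩
  show (∀ i, xs.length < i → IsZero ((F.leftDerived i).obj (ModuleCat.of A (A ⧸ Ideal.ofList xs)))) ∧
    Nonempty (↑((F.leftDerived xs.length).obj (ModuleCat.of A (A ⧸ Ideal.ofList xs))) ≃ₗ[A] _)
  induction xs using List.reverseRecOn with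
  | nil =>
    have : Module.Projective A (A ⧸ Ideal.ofList ([] : List A)) :=
      Module.Projective.of_equiv ((Submodule.quotEquivOfEqBot _ Ideal.ofList_nil).symm : A ≃ₗ[A] _)
    have : Projective (ModuleCat.of A (A ⧸ Ideal.ofList ([] : List A))) := inferInstance
    refine ⟨fun i hi => ?_, ⟨?_⟩⟩
    · obtain ⟨j, rfl⟩ : ∃ j, i = j + 1 := ⟨i - 1, by simp at hi; omega⟩
      exact F.isZero_leftDerived_obj_projective_succ j _
    · exact (F.leftDerivedZeroIsoSelf.app (ModuleCat.of A (A ⧸ Ideal.ofList ([] : List A)))).toLinearEquiv.trans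
        (((TensorProduct.congr (Submodule.quotEquivOfEqBot _ Ideal.ofList_nil) (LinearEquiv.refl A M)).trans
          (TensorProduct.lid A M)).trans
          ((LinearMap.ringLmapEquivSelf A A M).symm.trans
            (LinearEquiv.congrLeft M A (Submodule.quotEquivOfEqBot _ Ideal.ofList_nil).symm)))
  | append_singleton l x ih =>
    obtain ⟨hl, hx⟩ := regular_concat hreg
    obtain ⟨hvan, ⟨e⟩⟩ := ih hl
    rw [ofList_concat, List.length_append, List.length_singleton]
    let S : TorMod7.SES (ModuleCat.{u} A) := ⟨stepShort (Ideal.ofList l) x, stepShort_shortExact hx⟩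
    refine ⟨fun i hi => ?_, ⟨?_⟩⟩
    · obtain ⟨j, rfl⟩ : ∃ j, i = j + 1 := ⟨i - 1, by omega⟩
      exact (TorMod7.exact₃ F S j).isZero_of_both_zeros ((hvan (j + 1) (by omega)).eq_of_src _ _)
        ((hvan j (by omega)).eq_of_tgt _ _)
    · have hm : Mono (TorMod7.leftDerivedδ F S l.length) :=
        (TorMod7.exact₃ F S l.length).mono_g ((hvan (l.length + 1) (by omega)).eq_of_src _ _)
      let i : (F.leftDerived (l.length + 1)).obj S.1.X₃ ≅ kernel ((F.leftDerived l.length).map S.1.f) :=
        IsLimit.conePointUniqueUpToIso (TorMod7.exact₁ F S l.length).fIsKernel (limit.isLimit _)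
      let φ : ((A ⧸ Ideal.ofList l) →ₗ[A] M) →ₗ[A] (A ⧸ Ideal.ofList l) →ₗ[A] M := x • LinearMap.id
      have hf : ∀ z : (F.leftDerived l.length).obj S.1.X₁, ((F.leftDerived l.length).map S.1.f).hom z = x • z := by
        intro z
        rw [show S.1.f = x • 𝟙 (ModuleCat.of A (A ⧸ Ideal.ofList l)) from rfl, leftDerived_map_smul_id]
        rfl
      have hker : (LinearMap.ker ((F.leftDerived l.length).map S.1.f).hom).map
          (e : _ →ₗ[A] ((A ⧸ Ideal.ofList l) →ₗ[A] M)) = LinearMap.ker φ := by
        ext g
        constructor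
        · rintro ⟨z, hz, rfl⟩
          show x • e z = 0
          rw [← map_smul, ← hf z, show ((F.leftDerived l.length).map S.1.f).hom z = 0 from hz]
          exact map_zero e
        · intro hg
          refine ⟨e.symm g, ?_, e.apply_symm_apply g⟩
          show ((F.leftDerived l.length).map S.1.f).hom (e.symm g) = 0
          rw [hf, ← map_smul, show x • g = 0 from hg, map_zero]
      let p : (A ⧸ Ideal.ofList l) →ₗ[A] A ⧸ (Ideal.ofList l ⊔ Ideal.span {x}) := projMap le_sup_left
      let P : ((A ⧸ (Ideal.ofList l ⊔ Ideal.span {x})) →ₗ[A] M) →ₗ[A] LinearMap.ker φ :=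
        (LinearMap.lcomp A M p).codRestrict _ fun g => LinearMap.ext fun q => by
          obtain ⟨a, rfl⟩ := Submodule.Quotient.mk_surjective _ q
          show x • g (Submodule.Quotient.mk a) = 0
          rw [← map_smul, ← Submodule.Quotient.mk_smul, (Submodule.Quotient.mk_eq_zero _).2
            (show x • a ∈ Ideal.ofList l ⊔ Ideal.span {x} from
              Ideal.mem_sup_right (Ideal.mul_mem_right a _ (Ideal.mem_span_singleton_self x))), map_zero]
      have hP : Function.Bijective P := by
        constructor
        · intro g g' h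
          exact (LinearMap.cancel_right (Submodule.factor_surjective le_sup_left)).1 (congrArg Subtype.val h)
        · rintro ⟨g, hg⟩
          let g' : A →ₗ[A] M := g ∘ₗ Submodule.mkQ (Ideal.ofList l)
          have hle : Ideal.ofList l ⊔ Ideal.span {x} ≤ LinearMap.ker g' := by
            refine sup_le (fun a ha => ?_) ((Ideal.span_singleton_le_iff_mem (LinearMap.ker g')).2 ?_)
            · show g (Submodule.Quotient.mk a) = 0
              rw [(Submodule.Quotient.mk_eq_zero _).2 ha, map_zero]
            · show g (Submodule.Quotient.mk x) = 0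
              have h := LinearMap.congr_fun hg (Submodule.Quotient.mk 1)
              rw [← mul_one x, ← smul_eq_mul, Submodule.Quotient.mk_smul, map_smul]
              exact h
          exact ⟨Submodule.liftQ _ g' hle, Subtype.ext (Submodule.linearMap_qext _ (LinearMap.ext fun a => rfl))⟩
      exact (i ≪≫ ModuleCat.kernelIsoKer _).toLinearEquiv.trans
        (((e.submoduleMap _).trans (LinearEquiv.ofEq _ _ hker)).trans (LinearEquiv.ofBijective P hP).symm)

end Groth.Agent.ExtReg38
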